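import Groth.Prelude.Def_K0Var
import Mathlib.AlgebraicGeometry.IdealSheaf.Subscheme
import Mathlib.AlgebraicGeometry.Restrict
import Mathlib.AlgebraicGeometry.PullbackCarrier
import Mathlib.AlgebraicGeometry.Noetherian

/-!
# The class of a Zariski locally trivial fibration
-/

set_option autoImplicit false
set_option backward.isDefEq.respectTransparency false
set_option backward.isDefEq.respectTransparency.types false

universe u

open CategoryTheory CategoryTheory.Limits AlgebraicGeometry TopologicalSpace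

namespace K0L

variable {S X Y F : Scheme.{u}} (pY : Y ⟶ S) [LocallyOfFiniteType pY] [QuasiCompact pY]
  (pF : F ⟶ S) [LocallyOfFiniteType pF] [QuasiCompact pF]
  (f : X ⟶ Y) [LocallyOfFiniteType f] [QuasiCompact f]

/-- Over a piece mapping into a trivialising open, the class is the product. -/
lemma cl_pullback_of_trivial (U : Y.Opens)
    (e : (f ⁻¹ᵁ U).toScheme ≅ pullback (U.ι ≫ pY) pF)
    (he : e.hom ≫ pullback.fst (U.ι ≫ pY) pF = f ∣_ U)
    {Z : Scheme.{u}} (g : Z ⟶ Y) [LocallyOfFiniteType g] [QuasiCompact g] (g₀ : Z ⟶ U.toScheme)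
    (hg : g₀ ≫ U.ι = g) :
    K0Var.cl (pullback.fst g f ≫ g ≫ pY) = K0Var.cl (g ≫ pY) * K0Var.cl pF := by
  have h1 : IsPullback (pullback.fst (U.ι ≫ pY) pF) (e.inv ≫ (f ⁻¹ᵁ U).ι) U.ι f :=
    (isPullback_morphismRestrict f U).of_iso e (Iso.refl _) (Iso.refl _) (Iso.refl _)
      (by simp [he]) (by simp) (by simp) (by simp)
  subst hg
  let a : pullback (g₀ ≫ U.ι) f ≅ pullback g₀ (pullback.fst (U.ι ≫ pY) pF) :=
    (((IsPullback.of_hasPullback g₀ (pullback.fst (U.ι ≫ pY) pF)).flip.paste_horiz h1.flip).flip.isoPullback).symm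
  let b := pullbackRightPullbackFstIso (U.ι ≫ pY) pF g₀
  have hab : a.hom ≫ pullback.fst g₀ (pullback.fst (U.ι ≫ pY) pF) = pullback.fst (g₀ ≫ U.ι) f :=
    IsPullback.isoPullback_inv_fst _
  haveI : LocallyOfFiniteType (g₀ ≫ U.ι ≫ pY) := by rw [← Category.assoc]; infer_instance
  haveI : QuasiCompact (g₀ ≫ U.ι ≫ pY) := by rw [← Category.assoc]; infer_instance
  have h3 : K0Var.cl (pullback.fst (g₀ ≫ U.ι) f ≫ (g₀ ≫ U.ι) ≫ pY) =
      K0Var.cl (pullback.fst (g₀ ≫ U.ι ≫ pY) pF ≫ g₀ ≫ U.ι ≫ pY) :=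
    K0Var.cl_congr _ _ (a ≪≫ b) (by
      rw [Iso.trans_hom, Category.assoc, Category.assoc, ← hab]
      simp only [b, Category.assoc, pullbackRightPullbackFstIso_hom_fst_assoc])
  rw [h3, K0Var.cl_mul]
  congr 1

/-- **Induction over a finite trivialising cover.** -/
theorem cl_pullback_of_cover [IsLocallyNoetherian Y] (s : Finset Y.Opens)
    (hs : ∀ U ∈ s, ∃ e : (f ⁻¹ᵁ U).toScheme ≅ pullback (U.ι ≫ pY) pF,
      e.hom ≫ pullback.fst (U.ι ≫ pY) pF = f ∣_ U)
    {Z : Scheme.{u}} (g : Z ⟶ Y) [LocallyOfFiniteType g] [QuasiCompact g]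
    (hg : ∀ z, ∃ U ∈ s, g z ∈ U) :
    K0Var.cl (pullback.fst g f ≫ g ≫ pY) = K0Var.cl (g ≫ pY) * K0Var.cl pF := by
  classical
  induction s using Finset.induction generalizing Z with
  | empty =>
    haveI : IsEmpty (K0Var.Gen.mk Z (g ≫ pY)).X := ⟨fun z => by
      obtain ⟨U, hU, -⟩ := hg z; simp at hU⟩
    haveI : IsEmpty (K0Var.Gen.mk (pullback g f) (pullback.fst g f ≫ g ≫ pY)).X := ⟨fun z => by
      obtain ⟨U, hU, -⟩ := hg (pullback.fst g f z); simp at hU⟩
    show (K0Var.Gen.mk (pullback g f) (pullback.fst g f ≫ g ≫ pY)).cl =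
      (K0Var.Gen.mk Z (g ≫ pY)).cl * _
    rw [K0Var.Gen.cl_eq_zero_of_isEmpty, K0Var.Gen.cl_eq_zero_of_isEmpty, zero_mul]
  | insert U s hU ih =>
    haveI : IsLocallyNoetherian Z := LocallyOfFiniteType.isLocallyNoetherian g
    let W : Z.Opens := g ⁻¹ᵁ U
    let C : Closeds Z := ⟨(W : Set Z)ᶜ, W.2.isClosed_compl⟩
    let I := Scheme.IdealSheafData.vanishingIdeal C
    have hI : Set.range I.subschemeι = (Set.range W.ι)ᶜ := by
      rw [Scheme.IdealSheafData.range_subschemeι, Scheme.Opens.range_ι]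
      simp [I, C, Scheme.IdealSheafData.coe_support_vanishingIdeal]
    let j := pullback.snd W.ι (pullback.fst g f)
    let i := pullback.snd I.subschemeι (pullback.fst g f)
    have hr : Set.range i = (Set.range j)ᶜ := by
      rw [Scheme.Pullback.range_snd, Scheme.Pullback.range_snd, hI, Set.preimage_compl]
    have hj : K0Var.cl (j ≫ pullback.fst g f ≫ g ≫ pY) =
        K0Var.cl (pullback.fst (W.ι ≫ g) f ≫ (W.ι ≫ g) ≫ pY) :=
      K0Var.cl_congr _ _ (pullbackRightPullbackFstIso g f W.ι) (by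
        simp [j, pullback.condition_assoc])
    have hi : K0Var.cl (i ≫ pullback.fst g f ≫ g ≫ pY) =
        K0Var.cl (pullback.fst (I.subschemeι ≫ g) f ≫ (I.subschemeι ≫ g) ≫ pY) :=
      K0Var.cl_congr _ _ (pullbackRightPullbackFstIso g f I.subschemeι) (by
        simp [i, pullback.condition_assoc])
    obtain ⟨e, he⟩ := hs U (Finset.mem_insert_self U s)
    rw [K0Var.cl_scissor (pullback.fst g f ≫ g ≫ pY) i j hr, hi, hj,
      K0Var.cl_scissor (g ≫ pY) I.subschemeι W.ι hI, add_mul,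
      cl_pullback_of_trivial pY pF f U e he (W.ι ≫ g) (g ∣_ U) (morphismRestrict_ι g U),
      ih (fun V hV => hs V (Finset.mem_insert_of_mem hV)) (I.subschemeι ≫ g) (fun z => ?_)]
    · congr 2
    · obtain ⟨V, hV, hzV⟩ := hg (I.subschemeι z)
      rcases Finset.mem_insert.1 hV with rfl | hV'
      · have hz : I.subschemeι z ∈ (Set.range W.ι)ᶜ := hI ▸ ⟨z, rfl⟩
        rw [Scheme.Opens.range_ι] at hz
        exact absurd hzV hz
      · exact ⟨V, hV', hzV⟩

end K0L
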