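import Groth.Agent.SGA1Q.Orbits
import Groth.Agent.H9SymQ.Local

/-!
# Quotients of induced schemes

If a finite group `G` acts on `A` and `V ⊆ A` is open and closed, with stabiliser (the image of) `H`,
translates covering `A` and disjoint from `V` outside `H`, then a quotient of `A` by `G` is a quotient
of `V` by `H`.
-/

set_option autoImplicit false
set_option backward.isDefEq.respectTransparency false
set_option backward.isDefEq.respectTransparency.types false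

universe u

open CategoryTheory CategoryTheory.Limits AlgebraicGeometry TopologicalSpace

namespace K0L

section Sections

variable {A : Scheme.{u}}

/-- Sections are equal when their pullbacks along jointly surjective open immersions are. -/
lemma section_ext_of_openImmersions {κ : Type*} {Y : κ → Scheme.{u}} (ψ : ∀ k, Y k ⟶ A)
    [∀ k, IsOpenImmersion (ψ k)] (U : A.Opens) (hsurj : ∀ x ∈ U, ∃ k y, ψ k y = x)
    (a b : Γ(A, U)) (h : ∀ k, ((ψ k).app U).hom a = ((ψ k).app U).hom b) : a = b := by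
  refine TopCat.Presheaf.section_ext A.sheaf U a b fun x hx => ?_
  obtain ⟨k, y, rfl⟩ := hsurj x hx
  have e : ∀ c, ((ψ k).stalkMap y).hom ((A.presheaf.germ U (ψ k y) hx).hom c) =
      ((Y k).presheaf.germ (ψ k ⁻¹ᵁ U) y hx).hom (((ψ k).app U).hom c) := fun c =>
    congr(($(Scheme.Hom.germ_stalkMap (ψ k) U y hx)).hom c)
  refine (asIso ((ψ k).stalkMap y)).commRingCatIsoToRingEquiv.injective ?_
  exact (e a).trans ((congrArg _ (h k)).trans (e b).symm)

/-- A section on an open piece extends by zero across a complementary open piece. -/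
lemma exists_extend_zero {V : Scheme.{u}} (ι : V ⟶ A) [IsOpenImmersion ι] (C : A.Opens)
    (hC : Disjoint (C : Set A) (Set.range ι)) (hcov : ∀ x, x ∈ Set.range ι ∨ x ∈ C)
    (U : A.Opens) (s : Γ(V, ι ⁻¹ᵁ U)) :
    ∃ t : Γ(A, U), (ι.app U).hom t = s ∧ (C.ι.app U).hom t = 0 := by
  let W : Bool → A.Opens := fun b => cond b (ι ''ᵁ ι ⁻¹ᵁ U) (C ⊓ U)
  have hle : ∀ b, W b ≤ U := fun b => by
    cases b
    · exact inf_le_right
    · rintro _ ⟨v, hv, rfl⟩
      exact hv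
  let sf : ∀ b, Γ(A, W b) := fun b => match b with
    | true => (ι.appIso (ι ⁻¹ᵁ U)).inv.hom s
    | false => 0
  have hdisj : W true ⊓ W false = ⊥ := by
    refine Opens.ext (Set.eq_empty_of_forall_notMem fun x hx => ?_)
    obtain ⟨v, -, rfl⟩ := hx.1
    exact Set.disjoint_left.1 hC hx.2.1 ⟨v, rfl⟩
  have hsub : ∀ O : A.Opens, O = ⊥ → Subsingleton Γ(A, O) := by
    rintro O rfl
    exact CommRingCat.subsingleton_of_isTerminal (TopCat.Sheaf.isTerminalOfEmpty A.sheaf)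
  obtain ⟨t, ht, -⟩ := A.sheaf.existsUnique_gluing' W U (fun b => homOfLE (hle b))
    (fun x hx => Opens.mem_iSup.2 (by
      rcases hcov x with ⟨v, rfl⟩ | hxC
      · exact ⟨true, v, hx, rfl⟩
      · exact ⟨false, hxC, hx⟩)) sf (fun b b' => by
      cases b <;> cases b'
      · rfl
      · exact @Subsingleton.elim _ (hsub _ (by rw [inf_comm]; exact hdisj)) _ _
      · exact @Subsingleton.elim _ (hsub _ hdisj) _ _
      · rfl)
  refine ⟨t, ?_, ?_⟩
  · have h1 := ht true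
    have e : ι.app U = A.presheaf.map (homOfLE (hle true)).op ≫ (ι.appIso (ι ⁻¹ᵁ U)).hom := by
      rw [← Iso.comp_inv_eq]
      exact ι.app_appIso_inv U
    rw [e]
    exact (congrArg _ h1).trans congr(($((ι.appIso (ι ⁻¹ᵁ U)).inv_hom_id)).hom s)
  · have h2 := ht false
    have hW : C.ι ''ᵁ (C.ι ⁻¹ᵁ U) ≤ C ⊓ U := (C.ι.image_preimage_eq_opensRange_inf U).le.trans
      (inf_le_inf_right _ (by rw [Scheme.Opens.opensRange_ι]))
    have e : C.ι.app U = A.presheaf.map (homOfLE (hle false)).op ≫ A.presheaf.map (homOfLE hW).op := by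
      rw [Scheme.Opens.ι_app, ← Functor.map_comp]
      rfl
    rw [e]
    exact (congrArg _ h2).trans (map_zero (A.presheaf.map (homOfLE hW).op).hom)

end Sections

variable {A B V : Scheme.{u}} {G H : Type u} [Group G] [Group H]

/-- Pullback of sections vanishes when it factors through a piece on which the section vanishes. -/
lemma app_comp_eq_zero {Y Z : Scheme.{u}} (ψ : Y ⟶ A) (l : Y ⟶ Z) (c : Z ⟶ A) (hl : l ≫ c = ψ)
    (U : A.Opens) (t : Γ(A, U)) (ht : (c.app U).hom t = 0) : (ψ.app U).hom t = 0 := by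
  subst hl
  rw [Scheme.Hom.comp_app]
  exact (congrArg _ ht).trans (map_zero (l.app (c ⁻¹ᵁ U)).hom)

/-- **The quotient of an induced scheme.** -/
theorem isQuot_induced [Finite G] {ρ : G →* Aut A} {p : A ⟶ B} (hp : SGA1.IsQuot ρ p)
    (ι : V ⟶ A) [IsOpenImmersion ι] (hclosed : IsClosed (Set.range ι))
    {ρ' : H →* Aut V} (j : H →* G) (heq : ∀ h, (ρ' h).hom ≫ ι = ι ≫ (ρ (j h)).hom)
    (hsep : ∀ (g : G) (v : V), (ρ g).hom (ι v) ∈ Set.range ι → g ∈ j.range)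
    (hcov : ∀ a : A, ∃ g : G, (ρ g).hom a ∈ Set.range ι) :
    SGA1.IsQuot ρ' (ι ≫ p) := by
  haveI := hp.affine
  haveI : IsClosedImmersion ι := IsClosedImmersion.of_isPreimmersion ι hclosed
  have hinv : ∀ h, (ρ' h).hom ≫ ι ≫ p = ι ≫ p := fun h => by
    rw [reassoc_of% heq h, hp.inv]
  have hmulapp : ∀ (g g' : G) (a : A), (ρ g).hom ((ρ g').hom a) = (ρ (g * g')).hom a := fun g g' a =>
    (congr(($(SGA1Q.hom_mul ρ g g')).base a)).symm
  -- the translates of `V` cover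
  have hcov' : ∀ a : A, ∃ g : G, ∃ v : V, (ρ g).hom (ι v) = a := fun a => by
    obtain ⟨g, v, hv⟩ := hcov a
    refine ⟨g⁻¹, v, ?_⟩
    rw [hv, hmulapp, inv_mul_cancel]
    exact congr(($(SGA1Q.hom_one ρ)).base a)
  refine ⟨inferInstance, hinv, fun U a b hab => ?_, fun U s => ⟨?_, fun hs => ?_⟩⟩
  · -- injectivity
    refine hp.injective U (section_ext_of_openImmersions (fun g : G => ι ≫ (ρ g).hom) (p ⁻¹ᵁ U)
      (fun x _ => by obtain ⟨g, v, hv⟩ := hcov' x; exact ⟨g, v, hv⟩) _ _ fun g => ?_)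
    have e : ∀ c : Γ(B, U), ((ι ≫ (ρ g).hom).app (p ⁻¹ᵁ U)).hom ((p.app U).hom c) =
        ((ι ≫ (ρ g).hom ≫ p).app U).hom c := fun c => rfl
    rw [e, e]
    have hgen : ∀ φ : V ⟶ B, φ = ι ≫ p → (φ.app U).hom a = (φ.app U).hom b := by
      rintro _ rfl
      exact hab
    exact hgen _ (by rw [hp.inv g])
  · rintro ⟨t, rfl⟩ h
    exact SGA1Q.appLE_app_of_inv hinv U h t
  · let C : A.Opens := ⟨(Set.range ι)ᶜ, hclosed.isOpen_compl⟩
    have hdisj : Disjoint (C : Set A) (Set.range ι) := disjoint_compl_left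
    obtain ⟨t, ht, htC⟩ := exists_extend_zero ι C hdisj (fun x => em _) (p ⁻¹ᵁ U) s
    have hst : ∀ g, p ⁻¹ᵁ U ≤ (ρ g).hom ⁻¹ᵁ (p ⁻¹ᵁ U) := fun g =>
      SGA1.preimage_le_of_inv ρ p hp.inv g U
    letI := SGA1Q.secAction ρ (p ⁻¹ᵁ U) hst
    -- pullbacks of translates
    have hsmul : ∀ (g : G) {Y : Scheme.{u}} (ψ : Y ⟶ A) (e : ψ ⁻¹ᵁ (p ⁻¹ᵁ U) ≤
        (ψ ≫ (ρ g⁻¹).hom) ⁻¹ᵁ (p ⁻¹ᵁ U)),
        (ψ.app (p ⁻¹ᵁ U)).hom (g • t) =
          ((ψ ≫ (ρ g⁻¹).hom).appLE (p ⁻¹ᵁ U) (ψ ⁻¹ᵁ (p ⁻¹ᵁ U)) e).hom t := by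
      intro g Y ψ e
      show (((ρ g⁻¹).hom.appLE _ _ (hst _)) ≫ ψ.app (p ⁻¹ᵁ U)).hom t = _
      rw [Scheme.Hom.app_eq_appLE, Scheme.Hom.appLE_comp_appLE]
    have hzero : ∀ {Y : Scheme.{u}} (ψ : Y ⟶ A), (∀ y, ψ y ∉ Set.range ι) → ∀ (W : Y.Opens)
        (e : W ≤ ψ ⁻¹ᵁ (p ⁻¹ᵁ U)), (ψ.appLE (p ⁻¹ᵁ U) W e).hom t = 0 := by
      intro Y ψ hψ W e
      have hr : Set.range ψ.base ⊆ Set.range C.ι.base := by
        rw [Scheme.Opens.range_ι]
        rintro _ ⟨y, rfl⟩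
        exact hψ y
      have h0 := app_comp_eq_zero ψ (IsOpenImmersion.lift C.ι ψ hr) C.ι
        (IsOpenImmersion.lift_fac _ _ _) (p ⁻¹ᵁ U) t htC
      rw [Scheme.Hom.appLE, CommRingCat.comp_apply, h0, map_zero]
    have hpre : ∀ (g : G) {Y : Scheme.{u}} (ψ : Y ⟶ A),
        ψ ⁻¹ᵁ (p ⁻¹ᵁ U) ≤ (ψ ≫ (ρ g⁻¹).hom) ⁻¹ᵁ (p ⁻¹ᵁ U) := fun g Y ψ =>
      ψ.preimage_mono (hst g⁻¹)
    -- `t` is invariant under the stabiliser
    have hH : ∀ g ∈ j.range, g • t = t := by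
      rintro g ⟨h, rfl⟩
      let ψ : ∀ b : Bool, (cond b V C.toScheme : Scheme.{u}) ⟶ A := fun b =>
        match b with | true => ι | false => C.ι
      haveI : ∀ b, IsOpenImmersion (ψ b) := fun b => by
        cases b
        · exact inferInstanceAs (IsOpenImmersion C.ι)
        · exact inferInstanceAs (IsOpenImmersion ι)
      refine section_ext_of_openImmersions ψ (p ⁻¹ᵁ U) ?_ _ _ ?_
      · intro x _
        rcases em (x ∈ Set.range ι) with ⟨v, hv⟩ | hx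
        · exact ⟨true, v, hv⟩
        · exact ⟨false, ⟨x, hx⟩, rfl⟩
      intro b
      cases b
      · show (C.ι.app (p ⁻¹ᵁ U)).hom (j h • t) = (C.ι.app (p ⁻¹ᵁ U)).hom t
        rw [hsmul (j h) C.ι (hpre _ _), htC]
        refine hzero _ (fun y => ?_) _ _
        rintro ⟨v, hv⟩
        refine y.2 ⟨(ρ' h).hom v, ?_⟩
        refine (congr(($(heq h)).base v)).trans ?_
        refine (congrArg (ρ (j h)).hom hv).trans ?_
        refine (hmulapp (j h) (j h)⁻¹ (C.ι y)).trans ?_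
        rw [mul_inv_cancel]
        exact congr(($(SGA1Q.hom_one ρ)).base (C.ι y))
      · show (ι.app (p ⁻¹ᵁ U)).hom (j h • t) = (ι.app (p ⁻¹ᵁ U)).hom t
        rw [hsmul (j h) ι (hpre _ _), ht]
        have e' : ι ≫ (ρ (j h)⁻¹).hom = (ρ' h⁻¹).hom ≫ ι := by rw [heq, map_inv j]
        rw [SGA1Q.appLE_congr_hom e' _ (e' ▸ hpre (j h) ι),
          ← Scheme.Hom.appLE_comp_appLE (ρ' h⁻¹).hom ι (p ⁻¹ᵁ U) (ι ⁻¹ᵁ (p ⁻¹ᵁ U))
            (ι ⁻¹ᵁ (p ⁻¹ᵁ U)) le_rfl (SGA1.preimage_le_of_inv ρ' (ι ≫ p) hinv h⁻¹ U),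
          CommRingCat.comp_apply, ← Scheme.Hom.app_eq_appLE, ht]
        exact hs h⁻¹
    obtain ⟨u, hu⟩ := (hp.range_iff U (H9SymQ.trH j.range t)).2 fun g => by
      have e := H9SymQ.smul_trH hH g⁻¹
      rw [show ((ρ g).hom.appLE (p ⁻¹ᵁ U) (p ⁻¹ᵁ U) (hst g)).hom (H9SymQ.trH j.range t) =
        g⁻¹ • H9SymQ.trH j.range t from by
          show _ = ((ρ g⁻¹⁻¹).hom.appLE _ _ _).hom _
          simp only [inv_inv]]
      exact e
    refine ⟨u, ?_⟩
    rw [Scheme.Hom.comp_app]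
    show (ι.app (p ⁻¹ᵁ U)).hom ((p.app U).hom u) = s
    rw [hu]
    letI : Fintype (G ⧸ j.range) := Fintype.ofFinite _
    rw [H9SymQ.trH]
    refine (map_sum (ι.app (p ⁻¹ᵁ U)).hom _ _).trans ?_
    refine (Finset.sum_eq_single (QuotientGroup.mk 1 : G ⧸ j.range) (fun q _ hq => ?_)
      (fun hne => absurd (Finset.mem_univ _) hne)).trans ?_
    rotate_left
    · rw [H9SymQ.smul_eq_smul_of_quotient_eq _ (1 : G) t hH
        (QuotientGroup.out_eq' (QuotientGroup.mk 1 : G ⧸ j.range)), one_smul]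
      exact ht
    · refine (hsmul _ ι (hpre _ _)).trans ?_
      refine hzero _ (fun v hv => hq ?_) _ _
      rw [← QuotientGroup.out_eq' q]
      refine QuotientGroup.eq.2 ?_
      rw [mul_one]
      exact hsep _ v hv

end K0L
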