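import Groth.Prelude.Def_K0Var

/-!
# Classes in the Grothendieck ring of a finite decomposition into clopens
-/

set_option autoImplicit false
set_option backward.isDefEq.respectTransparency false
set_option backward.isDefEq.respectTransparency.types false

universe u

open CategoryTheory CategoryTheory.Limits AlgebraicGeometry TopologicalSpace

namespace K0L

variable {X S : Scheme.{u}}

/-- An open and closed subscheme is closed. -/
lemma isClosedImmersion_ι (U : X.Opens) (hU : IsClosed (U : Set X)) : IsClosedImmersion U.ι :=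
  IsClosedImmersion.of_isPreimmersion U.ι (by rwa [Scheme.Opens.range_ι])

lemma isClosedImmersion_homOfLE {U V : X.Opens} (h : U ≤ V) (hU : IsClosed (U : Set X)) :
    IsClosedImmersion (X.homOfLE h) := by
  haveI : IsClosedImmersion (X.homOfLE h ≫ V.ι) := by
    rw [Scheme.homOfLE_ι]
    exact isClosedImmersion_ι U hU
  exact IsClosedImmersion.of_comp (X.homOfLE h) V.ι

variable (f : X ⟶ S) [LocallyOfFiniteType f] [QuasiCompact f]

open scoped Classical in
/-- The class of an open and closed piece (zero on the other opens). -/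
noncomputable def piece (U : X.Opens) : K0Var.K S :=
  if hU : IsClosed (U : Set X) then
    (haveI := isClosedImmersion_ι U hU; K0Var.cl (U.ι ≫ f))
  else 0

lemma piece_eq (U : X.Opens) (hU : IsClosed (U : Set X)) [LocallyOfFiniteType (U.ι ≫ f)]
    [QuasiCompact (U.ι ≫ f)] : piece f U = K0Var.cl (U.ι ≫ f) := by
  rw [piece, dif_pos hU]

lemma piece_bot : piece f (⊥ : X.Opens) = 0 := by
  have hU : IsClosed ((⊥ : X.Opens) : Set X) := isClosed_empty
  haveI := isClosedImmersion_ι _ hU
  rw [piece_eq f _ hU]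
  haveI : IsEmpty (K0Var.Gen.mk (⊥ : X.Opens).toScheme ((⊥ : X.Opens).ι ≫ f)).X :=
    ⟨fun x => x.2⟩
  exact K0Var.Gen.cl_eq_zero_of_isEmpty _

lemma piece_top : piece f (⊤ : X.Opens) = K0Var.cl f := by
  have hU : IsClosed ((⊤ : X.Opens) : Set X) := isClosed_univ
  haveI := isClosedImmersion_ι _ hU
  rw [piece_eq f _ hU]
  exact K0Var.cl_congr _ _ X.topIso (by rw [Scheme.topIso_hom])

lemma piece_sup (U V : X.Opens) (hU : IsClosed (U : Set X)) (hV : IsClosed (V : Set X))
    (hd : Disjoint (U : Set X) V) : piece f (U ⊔ V) = piece f U + piece f V := by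
  have hUV : IsClosed ((U ⊔ V : X.Opens) : Set X) := by
    rw [Opens.coe_sup]
    exact hU.union hV
  haveI := isClosedImmersion_ι _ hUV
  haveI := isClosedImmersion_ι _ hU
  haveI := isClosedImmersion_ι _ hV
  haveI := isClosedImmersion_homOfLE (le_sup_left : U ≤ U ⊔ V) hU
  haveI := isClosedImmersion_homOfLE (le_sup_right : V ≤ U ⊔ V) hV
  have hr : ∀ (W : X.Opens) (h : W ≤ U ⊔ V), Set.range (X.homOfLE h) = {z : (U ⊔ V : X.Opens).toScheme | z.1 ∈ W} := by
    intro W h
    ext z
    constructor
    · rintro ⟨w, rfl⟩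
      show (X.homOfLE h w).1 ∈ W
      rw [Scheme.homOfLE_apply]
      exact w.2
    · intro hz
      exact ⟨⟨z.1, hz⟩, Subtype.ext (Scheme.homOfLE_apply h _)⟩
  rw [piece_eq f _ hUV, piece_eq f _ hU, piece_eq f _ hV,
    K0Var.cl_scissor ((U ⊔ V : X.Opens).ι ≫ f) (X.homOfLE (le_sup_left : U ≤ U ⊔ V))
      (X.homOfLE (le_sup_right : V ≤ U ⊔ V)) (by
        rw [hr, hr]
        ext z
        show z.1 ∈ U ↔ ¬ z.1 ∈ V
        exact ⟨fun a b => Set.disjoint_left.1 hd a b,
          fun b => (Opens.mem_sup.1 z.2).resolve_right b⟩)]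
  exact congrArg₂ _
    (K0Var.cl_congr _ _ (Iso.refl _) (by simp))
    (K0Var.cl_congr _ _ (Iso.refl _) (by simp))

/-- **The class is the sum of the classes of the pieces.** -/
theorem cl_eq_sum_piece {ι : Type*} [Fintype ι] (U : ι → X.Opens)
    (hd : ∀ i j, i ≠ j → Disjoint (U i : Set X) (U j)) (hcov : ∀ x, ∃ i, x ∈ U i) :
    K0Var.cl f = ∑ i, piece f (U i) := by
  classical
  have hcl : ∀ i, IsClosed (U i : Set X) := by
    intro i
    have e : (U i : Set X)ᶜ = ⋃ j ∈ {j | j ≠ i}, (U j : Set X) := by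
      ext x
      simp only [Set.mem_compl_iff, SetLike.mem_coe, Set.mem_ofPred_eq, Set.mem_iUnion,
        exists_prop]
      constructor
      · intro h
        obtain ⟨j, hj⟩ := hcov x
        exact ⟨j, fun e => h (e ▸ hj), hj⟩
      · rintro ⟨j, hj, hx⟩ h
        exact Set.disjoint_left.1 (hd j i hj) hx h
    rw [← isOpen_compl_iff, e]
    exact isOpen_biUnion fun j _ => (U j).2
  have key : ∀ s : Finset ι, IsClosed ((s.sup U : X.Opens) : Set X) ∧
      piece f (s.sup U) = ∑ i ∈ s, piece f (U i) := by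
    intro s
    induction s using Finset.induction with
    | empty => exact ⟨isClosed_empty, by rw [Finset.sup_empty, Finset.sum_empty, piece_bot]⟩
    | insert a s ha ih =>
      rw [Finset.sup_insert, Finset.sum_insert ha]
      refine ⟨by rw [Opens.coe_sup]; exact (hcl a).union ih.1, ?_⟩
      rw [piece_sup f (U a) (s.sup U) (hcl a) ih.1 ?_, ih.2]
      rw [Set.disjoint_left]
      intro x hxa hxs
      obtain ⟨b, hb, hxb⟩ : ∃ b ∈ s, x ∈ U b := by
        simpa [Finset.sup_eq_iSup] using hxs
      exact Set.disjoint_left.1 (hd a b (fun e => ha (e ▸ hb))) hxa hxb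
  have htop : Finset.univ.sup U = ⊤ := by
    refine Opens.ext (Set.eq_univ_of_forall fun x => ?_)
    obtain ⟨i, hi⟩ := hcov x
    exact (Finset.le_sup (f := U) (Finset.mem_univ i)) hi
  rw [← (key Finset.univ).2, htop, piece_top]

end K0L
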