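import Groth.Agent.K0L.InducedQuot
import Groth.Agent.K0L.Sum
import Groth.Agent.H9SymQ.Final
import Groth.Agent.SGA1Q.Properties
import Mathlib.GroupTheory.Perm.Finite
import Mathlib.Logic.Equiv.Fintype
import Mathlib.RingTheory.PowerSeries.Basic
import Mathlib.Topology.LocallyConstant.Basic

/-!
# Symmetric powers of a disjoint union
-/

set_option autoImplicit false
set_option backward.isDefEq.respectTransparency false
set_option backward.isDefEq.respectTransparency.types false

universe u

open CategoryTheory CategoryTheory.Limits AlgebraicGeometry TopologicalSpace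

namespace K0L

variable {X X' Y : Scheme.{u}} (f : X ⟶ Y) (f' : X' ⟶ Y)

/-- The fibre power of the disjoint union. -/
noncomputable abbrev powSum (n : ℕ) : Scheme.{u} := SymProd.fibPow (coprod.desc f f') n

/-- The `i`-th projection. -/
noncomputable abbrev prSum (n : ℕ) (i : Fin n) : powSum f f' n ⟶ X ⨿ X' :=
  WidePullback.π (fun _ : Fin n => coprod.desc f f') i

/-- The projection of the sum to `X ⨿ X'` lies in the first summand. -/
def IsLeft {n : ℕ} (z : powSum f f' n) (i : Fin n) : Prop :=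
  prSum f f' n i z ∈ Set.range (coprod.inl : X ⟶ X ⨿ X')

lemma isClopen_range_inl : IsClopen (Set.range (coprod.inl : X ⟶ X ⨿ X')) := by
  refine ⟨?_, (coprod.inl : X ⟶ X ⨿ X').isOpenEmbedding.isOpen_range⟩
  rw [← isOpen_compl_iff, (isCompl_range_inl_inr X X').compl_eq]
  exact (coprod.inr : X' ⟶ X ⨿ X').isOpenEmbedding.isOpen_range

lemma isClopen_isLeft {n : ℕ} (i : Fin n) : IsClopen {z | IsLeft f f' z i} :=
  isClopen_range_inl.preimage (prSum f f' n i).continuous

open scoped Classical in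
/-- The number of components in the first summand. -/
noncomputable def numLeft {n : ℕ} (z : powSum f f' n) : ℕ :=
  (Finset.univ.filter (IsLeft f f' z)).card

open scoped Classical in
lemma isLocallyConstant_numLeft (n : ℕ) : IsLocallyConstant (numLeft f f' (n := n)) := by
  have h : numLeft f f' (n := n) = fun z => ∑ i : Fin n, if IsLeft f f' z i then 1 else 0 := by
    funext z
    rw [numLeft, Finset.card_filter]
  rw [h, IsLocallyConstant.iff_exists_open]
  intro z
  refine ⟨⋂ i : Fin n, {w | IsLeft f f' w i ↔ IsLeft f f' z i}, ?_, ?_, ?_⟩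
  · refine isOpen_iInter_of_finite fun i => ?_
    by_cases hz : IsLeft f f' z i
    · simp only [hz, iff_true]
      exact (isClopen_isLeft f f' i).2
    · simp only [hz, iff_false]
      exact (isClopen_isLeft f f' i).compl.2
  · exact Set.mem_iInter.2 fun i => Iff.rfl
  · intro w hw
    refine Finset.sum_congr rfl fun i _ => ?_
    simp only [show IsLeft f f' w i ↔ IsLeft f f' z i from Set.mem_iInter.1 hw i]

/-- The tuples with `a` components in the first summand. -/
noncomputable def degOpen (n a : ℕ) : (powSum f f' n).Opens :=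
  ⟨numLeft f f' ⁻¹' {a}, (isLocallyConstant_numLeft f f' n) {a}⟩

lemma isLeft_permHom {n : ℕ} (σ : Equiv.Perm (Fin n)) (z : powSum f f' n) (i : Fin n) :
    IsLeft f f' (SymProd.permHom (coprod.desc f f') n σ z) i ↔ IsLeft f f' z (σ.symm i) := by
  unfold IsLeft
  rw [show prSum f f' n i (SymProd.permHom (coprod.desc f f') n σ z) = prSum f f' n (σ.symm i) z from
    congr(($(SymProd.permHom_π (coprod.desc f f') n σ i)).base z)]

open scoped Classical in
lemma numLeft_permHom {n : ℕ} (σ : Equiv.Perm (Fin n)) (z : powSum f f' n) :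
    numLeft f f' (SymProd.permHom (coprod.desc f f') n σ z) = numLeft f f' z := by
  unfold numLeft
  refine Finset.card_bij (fun i _ => σ.symm i) ?_ ?_ ?_
  · intro i hi
    simp only [Finset.mem_filter, Finset.mem_univ, true_and] at hi ⊢
    exact (isLeft_permHom f f' σ z i).1 hi
  · intro i _ j _ h
    exact σ.symm.injective h
  · intro i hi
    simp only [Finset.mem_filter, Finset.mem_univ, true_and] at hi
    refine ⟨σ i, ?_, σ.symm_apply_apply i⟩
    simp only [Finset.mem_filter, Finset.mem_univ, true_and, isLeft_permHom, Equiv.symm_apply_apply]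
    exact hi

section Block

variable (a b : ℕ)

/-- The product of the two fibre powers. -/
noncomputable abbrev blockProd : Scheme.{u} :=
  pullback (WidePullback.base fun _ : Fin a => f) (WidePullback.base fun _ : Fin b => f')

/-- The inclusion of the product of the fibre powers. -/
noncomputable def blockMap : blockProd f f' a b ⟶ powSum f f' (a + b) :=
  WidePullback.lift (pullback.fst _ _ ≫ WidePullback.base _)
    (Fin.addCases (fun i => pullback.fst _ _ ≫ WidePullback.π _ i ≫ coprod.inl)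
      (fun j => pullback.snd _ _ ≫ WidePullback.π _ j ≫ coprod.inr))
    (fun i => by
      refine Fin.addCases (fun i => ?_) (fun j => ?_) i
      · simp
      · simp [pullback.condition])

@[reassoc]
lemma blockMap_left (i : Fin a) :
    blockMap f f' a b ≫ prSum f f' (a + b) (Fin.castAdd b i) =
      pullback.fst _ _ ≫ WidePullback.π _ i ≫ coprod.inl := by
  unfold blockMap prSum
  rw [WidePullback.lift_π]
  exact Fin.addCases_left i

@[reassoc]
lemma blockMap_right (j : Fin b) :
    blockMap f f' a b ≫ prSum f f' (a + b) (Fin.natAdd a j) =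
      pullback.snd _ _ ≫ WidePullback.π _ j ≫ coprod.inr := by
  unfold blockMap prSum
  rw [WidePullback.lift_π]
  exact Fin.addCases_right j

@[reassoc]
lemma blockMap_base : blockMap f f' a b ≫ WidePullback.base _ =
    pullback.fst _ _ ≫ WidePullback.base _ := by
  unfold blockMap
  exact WidePullback.lift_base _ _ _ _

/-- The tuples whose first `a` components are in the first summand, the others in the second. -/
noncomputable def blockOpen : (powSum f f' (a + b)).Opens :=
  ⟨⋂ i, {z | IsLeft f f' z i ↔ (i : ℕ) < a}, isOpen_iInter_of_finite fun i => by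
    by_cases hi : (i : ℕ) < a
    · simp only [hi, iff_true]
      exact (isClopen_isLeft f f' i).2
    · simp only [hi, iff_false]
      exact (isClopen_isLeft f f' i).compl.2⟩

lemma mem_blockOpen {z : powSum f f' (a + b)} :
    z ∈ blockOpen f f' a b ↔ ∀ i, IsLeft f f' z i ↔ (i : ℕ) < a :=
  Set.mem_iInter

lemma isClosed_blockOpen : IsClosed (blockOpen f f' a b : Set (powSum f f' (a + b))) :=
  isClosed_iInter fun i => by
    by_cases hi : (i : ℕ) < a
    · simp only [hi, iff_true]
      exact (isClopen_isLeft f f' i).1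
    · simp only [hi, iff_false]
      exact (isClopen_isLeft f f' i).compl.1

lemma blockMap_mem (z : blockProd f f' a b) : blockMap f f' a b z ∈ blockOpen f f' a b := by
  rw [mem_blockOpen]
  intro i
  refine Fin.addCases (fun i => ?_) (fun j => ?_) i
  · simp only [Fin.val_castAdd, Fin.is_lt, iff_true]
    exact ⟨_, (congr(($(blockMap_left f f' a b i)).base z)).symm⟩
  · simp only [Fin.val_natAdd, not_lt.2 (Nat.le_add_right a j), iff_false]
    rintro ⟨x, hx⟩
    exact inl_ne_inr _ _ _ _ (hx.trans congr(($(blockMap_right f f' a b j)).base z))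

theorem isOpenImmersion_blockMap :
    IsOpenImmersion (blockMap f f' a b) ∧
      Set.range (blockMap f f' a b) = (blockOpen f f' a b : Set (powSum f f' (a + b))) := by
  let O := blockOpen f f' a b
  have hl : ∀ i : Fin a, Set.range (O.ι ≫ prSum f f' (a + b) (Fin.castAdd b i)).base ⊆
      Set.range (coprod.inl : X ⟶ X ⨿ X').base := by
    rintro i _ ⟨z, rfl⟩
    exact ((mem_blockOpen f f' a b).1 z.2 (Fin.castAdd b i)).2 (by simp)
  have hr : ∀ j : Fin b, Set.range (O.ι ≫ prSum f f' (a + b) (Fin.natAdd a j)).base ⊆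
      Set.range (coprod.inr : X' ⟶ X ⨿ X').base := by
    rintro j _ ⟨z, rfl⟩
    have h : ¬ IsLeft f f' z.1 (Fin.natAdd a j) := fun h =>
      absurd (((mem_blockOpen f f' a b).1 z.2 _).1 h) (by simp)
    rw [← (isCompl_range_inl_inr X X').compl_eq]
    exact h
  let l : ∀ i : Fin a, O.toScheme ⟶ X := fun i =>
    IsOpenImmersion.lift coprod.inl _ (hl i)
  let r : ∀ j : Fin b, O.toScheme ⟶ X' := fun j =>
    IsOpenImmersion.lift coprod.inr _ (hr j)
  have el : ∀ i, l i ≫ coprod.inl = O.ι ≫ prSum f f' (a + b) (Fin.castAdd b i) := fun i =>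
    IsOpenImmersion.lift_fac _ _ _
  have er : ∀ j, r j ≫ coprod.inr = O.ι ≫ prSum f f' (a + b) (Fin.natAdd a j) := fun j =>
    IsOpenImmersion.lift_fac _ _ _
  have hlf : ∀ i, l i ≫ f = O.ι ≫ WidePullback.base _ := fun i => by
    refine (congrArg (l i ≫ ·) (coprod.inl_desc f f').symm).trans ?_
    simp only [reassoc_of% el i]
    exact congrArg _ (WidePullback.π_arrow _ _)
  have hrf : ∀ j, r j ≫ f' = O.ι ≫ WidePullback.base _ := fun j => by
    refine (congrArg (r j ≫ ·) (coprod.inr_desc f f').symm).trans ?_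
    simp only [reassoc_of% er j]
    exact congrArg _ (WidePullback.π_arrow _ _)
  let g : O.toScheme ⟶ blockProd f f' a b :=
    pullback.lift (WidePullback.lift (O.ι ≫ WidePullback.base _) l hlf)
      (WidePullback.lift (O.ι ≫ WidePullback.base _) r hrf) (by simp)
  have hfwd : Set.range (blockMap f f' a b).base ⊆ Set.range O.ι.base := by
    rw [Scheme.Opens.range_ι]
    rintro _ ⟨z, rfl⟩
    exact blockMap_mem f f' a b z
  let e : blockProd f f' a b ⟶ O.toScheme := IsOpenImmersion.lift O.ι _ hfwd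
  have he : e ≫ O.ι = blockMap f f' a b := IsOpenImmersion.lift_fac _ _ _
  have h1 : g ≫ e = 𝟙 _ := by
    rw [← cancel_mono O.ι, Category.assoc, he, Category.id_comp]
    apply WidePullback.hom_ext
    · intro i
      refine Fin.addCases (fun i => ?_) (fun j => ?_) i
      · rw [Category.assoc]
        refine (congrArg _ (blockMap_left f f' a b i)).trans ?_
        simp [g, el]
      · rw [Category.assoc]
        refine (congrArg _ (blockMap_right f f' a b j)).trans ?_
        simp [g, er]
    · rw [Category.assoc, blockMap_base]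
      simp [g]
  have h2 : e ≫ g = 𝟙 _ := by
    apply pullback.hom_ext
    · apply WidePullback.hom_ext
      · intro i
        rw [← cancel_mono (coprod.inl : X ⟶ X ⨿ X')]
        simp only [g, Category.assoc, Category.id_comp, pullback.lift_fst_assoc,
          WidePullback.lift_π_assoc, el, reassoc_of% he, blockMap_left]
      · simp only [g, Category.assoc, Category.id_comp, pullback.lift_fst_assoc,
          WidePullback.lift_base, reassoc_of% he, blockMap_base]
    · apply WidePullback.hom_ext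
      · intro j
        rw [← cancel_mono (coprod.inr : X' ⟶ X ⨿ X')]
        simp only [g, Category.assoc, Category.id_comp, pullback.lift_snd_assoc,
          WidePullback.lift_π_assoc, er, reassoc_of% he, blockMap_right]
      · simp only [g, Category.assoc, Category.id_comp, pullback.lift_snd_assoc,
          WidePullback.lift_base, reassoc_of% he, blockMap_base, pullback.condition]
  haveI : IsIso e := ⟨g, h2, h1⟩
  rw [← he]
  refine ⟨inferInstance, ?_⟩
  rw [Scheme.Hom.comp_base, TopCat.coe_comp, Set.range_comp,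
    Set.range_eq_univ.2 (Scheme.Hom.surjective e), Set.image_univ]
  exact Scheme.Opens.range_ι O

/-- The two blocks of permutations. -/
noncomputable def blockHom :
    ULift.{u} (Equiv.Perm (Fin a) × Equiv.Perm (Fin b)) →* ULift.{u} (Equiv.Perm (Fin (a + b))) :=
  (MulEquiv.ulift.symm.toMonoidHom.comp (finSumFinEquiv.permCongrHom.toMonoidHom.comp
    (Equiv.Perm.sumCongrHom (Fin a) (Fin b)))).comp MulEquiv.ulift.toMonoidHom

lemma blockHom_symm_left (σ : ULift.{u} (Equiv.Perm (Fin a) × Equiv.Perm (Fin b))) (i : Fin a) :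
    (blockHom a b σ).down.symm (Fin.castAdd b i) = Fin.castAdd b (σ.down.1.symm i) := by
  rw [Equiv.symm_apply_eq]
  show _ = finSumFinEquiv.permCongr (Equiv.sumCongr σ.down.1 σ.down.2) _
  simp [Equiv.permCongr_apply]

lemma blockHom_symm_right (σ : ULift.{u} (Equiv.Perm (Fin a) × Equiv.Perm (Fin b))) (j : Fin b) :
    (blockHom a b σ).down.symm (Fin.natAdd a j) = Fin.natAdd a (σ.down.2.symm j) := by
  rw [Equiv.symm_apply_eq]
  show _ = finSumFinEquiv.permCongr (Equiv.sumCongr σ.down.1 σ.down.2) _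
  simp [Equiv.permCongr_apply]

/-- The product action on the product of the fibre powers. -/
noncomputable def blockAct :
    ULift.{u} (Equiv.Perm (Fin a) × Equiv.Perm (Fin b)) →* Aut (blockProd f f' a b) where
  toFun σ :=
    { hom := pullback.map _ _ _ _ (SymProd.permHom f a σ.down.1) (SymProd.permHom f' b σ.down.2)
        (𝟙 Y) (by simp) (by simp)
      inv := pullback.map _ _ _ _ (SymProd.permHom f a σ.down.1⁻¹) (SymProd.permHom f' b σ.down.2⁻¹)
        (𝟙 Y) (by simp) (by simp)
      hom_inv_id := by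
        apply pullback.hom_ext <;> simp [← SymProd.permHom_mul, SymProd.permHom_one]
      inv_hom_id := by
        apply pullback.hom_ext <;> simp [← SymProd.permHom_mul, SymProd.permHom_one] }
  map_one' := by
    ext1
    show _ = 𝟙 _
    apply pullback.hom_ext <;> simp [SymProd.permHom_one]
  map_mul' σ τ := by
    ext1
    apply pullback.hom_ext <;> simp [Aut.Aut_mul_def, SymProd.permHom_mul]

lemma blockAct_blockMap (σ : ULift.{u} (Equiv.Perm (Fin a) × Equiv.Perm (Fin b))) :
    (blockAct f f' a b σ).hom ≫ blockMap f f' a b =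
      blockMap f f' a b ≫ SymProd.permHom (coprod.desc f f') (a + b) (blockHom a b σ).down := by
  apply WidePullback.hom_ext
  · intro i
    rw [Category.assoc, Category.assoc, SymProd.permHom_π]
    refine Fin.addCases (fun i => ?_) (fun j => ?_) i
    · rw [blockHom_symm_left]
      refine ((congrArg _ (blockMap_left f f' a b i)).trans ?_).trans (blockMap_left f f' a b _).symm
      simp [blockAct]
    · rw [blockHom_symm_right]
      refine ((congrArg _ (blockMap_right f f' a b j)).trans ?_).trans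
        (blockMap_right f f' a b _).symm
      simp [blockAct]
  · rw [Category.assoc, Category.assoc, blockMap_base, SymProd.permHom_base, blockMap_base]
    simp [blockAct]

open scoped Classical in
lemma numLeft_of_mem {z : powSum f f' (a + b)} (hz : z ∈ blockOpen f f' a b) :
    numLeft f f' z = a := by
  unfold numLeft
  rw [show Finset.univ.filter (IsLeft f f' z) =
    Finset.univ.filter fun i : Fin (a + b) => (i : ℕ) < a from
      Finset.filter_congr fun i _ => (mem_blockOpen f f' a b).1 hz i]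
  rw [show Finset.univ.filter (fun i : Fin (a + b) => (i : ℕ) < a) =
    (Finset.univ : Finset (Fin a)).map (Fin.castAddEmb b) from ?_]
  · simp
  ext i
  simp only [Finset.mem_filter, Finset.mem_univ, true_and, Finset.mem_map]
  refine ⟨fun h => ⟨⟨i, h⟩, Fin.ext rfl⟩, ?_⟩
  rintro ⟨j, rfl⟩
  simp

lemma exists_perm_mem_blockOpen {z : powSum f f' (a + b)} (hz : numLeft f f' z = a) :
    ∃ σ, SymProd.permHom (coprod.desc f f') (a + b) σ z ∈ blockOpen f f' a b := by
  classical
  have hc : Fintype.card {i : Fin (a + b) // (i : ℕ) < a} =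
      Fintype.card {i : Fin (a + b) // IsLeft f f' z i} := by
    rw [Fintype.card_subtype, Fintype.card_subtype]
    refine Eq.trans ?_ hz.symm
    rw [show Finset.univ.filter (fun i : Fin (a + b) => (i : ℕ) < a) =
      (Finset.univ : Finset (Fin a)).map (Fin.castAddEmb b) from ?_]
    · simp
    ext i
    simp only [Finset.mem_filter, Finset.mem_univ, true_and, Finset.mem_map]
    refine ⟨fun h => ⟨⟨i, h⟩, Fin.ext rfl⟩, ?_⟩
    rintro ⟨j, rfl⟩
    simp
  let e : {i : Fin (a + b) // (i : ℕ) < a} ≃ {i : Fin (a + b) // IsLeft f f' z i} :=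
    Fintype.equivOfCardEq hc
  refine ⟨(e.extendSubtype)⁻¹, (mem_blockOpen f f' a b).2 fun i => ?_⟩
  rw [isLeft_permHom]
  show IsLeft f f' z (e.extendSubtype i) ↔ _
  refine ⟨fun h => ?_, fun h => e.extendSubtype_mem i h⟩
  by_contra hi
  exact e.extendSubtype_not_mem i hi h

lemma mem_range_blockHom {σ : ULift.{u} (Equiv.Perm (Fin (a + b)))} {z : powSum f f' (a + b)}
    (hz : z ∈ blockOpen f f' a b)
    (hσz : SymProd.permHom (coprod.desc f f') (a + b) σ.down z ∈ blockOpen f f' a b) :
    σ ∈ (blockHom a b).range := by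
  have hpres : ∀ i : Fin (a + b), (i : ℕ) < a → (σ.down i : ℕ) < a := by
    intro i hi
    rw [← (mem_blockOpen f f' a b).1 hσz, isLeft_permHom, Equiv.symm_apply_apply]
    exact ((mem_blockOpen f f' a b).1 hz i).2 hi
  have hmaps : Set.MapsTo (finSumFinEquiv.symm.permCongr σ.down) (Set.range Sum.inl)
      (Set.range Sum.inl) := by
    rintro _ ⟨i, rfl⟩
    refine ⟨⟨σ.down (Fin.castAdd b i), hpres _ (by simp)⟩, ?_⟩
    rw [Equiv.permCongr_apply, Equiv.symm_symm, finSumFinEquiv_apply_left]
    refine finSumFinEquiv.injective ?_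
    rw [Equiv.apply_symm_apply, finSumFinEquiv_apply_left]
    exact Fin.ext rfl
  obtain ⟨τ, hτ⟩ := Equiv.Perm.mem_sumCongrHom_range_of_perm_mapsTo_inl hmaps
  refine ⟨⟨τ⟩, ULift.ext _ _ ?_⟩
  show finSumFinEquiv.permCongr (Equiv.Perm.sumCongrHom _ _ τ) = σ.down
  rw [hτ]
  ext i
  simp [Equiv.permCongr_apply]

/-- **A degree piece of a symmetric power of a disjoint union is a product of symmetric powers.** -/
theorem exists_iso_degree_piece (hunit : ∀ m : ℕ, 0 < m → IsUnit ((m : ℕ) : Γ(Y, ⊤)))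
    {T : Scheme.{u}} {Q : powSum f f' (a + b) ⟶ T} {h : T ⟶ Y}
    (hT : SymProd.IsSymProd (coprod.desc f f') (a + b) Q h)
    {P : Scheme.{u}} {q : SymProd.fibPow f a ⟶ P} {g : P ⟶ Y} (hP : SymProd.IsSymProd f a q g)
    {P' : Scheme.{u}} {q' : SymProd.fibPow f' b ⟶ P'} {g' : P' ⟶ Y}
    (hP' : SymProd.IsSymProd f' b q' g')
    (O : T.Opens) (hO : Q ⁻¹ᵁ O = degOpen f f' (a + b) a) :
    ∃ e : pullback g g' ≅ O.toScheme, e.hom ≫ O.ι ≫ h = pullback.fst g g' ≫ g := by
  let ρ := SymProd.permActU (coprod.desc f f') (a + b)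
  have hst : ∀ σ, Q ⁻¹ᵁ O ≤ (ρ σ).hom ⁻¹ᵁ (Q ⁻¹ᵁ O) := fun σ =>
    SGA1.preimage_le_of_inv ρ Q hT.isQuot.inv σ O
  let ρO := SGA1Q.restrictAction ρ (Q ⁻¹ᵁ O) hst
  have hq := SGA1Q.isQuot_morphismRestrict hT.isQuot O ρO
    (fun σ => SGA1Q.restrictAction_hom_ι _ _ _ σ)
  obtain ⟨hoi, hrange⟩ := isOpenImmersion_blockMap f f' a b
  haveI := hoi
  have hsub : Set.range (blockMap f f' a b).base ⊆ Set.range (Q ⁻¹ᵁ O).ι.base := by
    rw [Scheme.Opens.range_ι]
    rintro _ ⟨z, rfl⟩
    show _ ∈ (Q ⁻¹ᵁ O)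
    rw [hO]
    exact numLeft_of_mem f f' a b (blockMap_mem f f' a b z)
  let m := IsOpenImmersion.lift (Q ⁻¹ᵁ O).ι _ hsub
  have hm : m ≫ (Q ⁻¹ᵁ O).ι = blockMap f f' a b := IsOpenImmersion.lift_fac _ _ _
  haveI : IsOpenImmersion (m ≫ (Q ⁻¹ᵁ O).ι) := hm ▸ hoi
  haveI : IsOpenImmersion m := IsOpenImmersion.of_comp m (Q ⁻¹ᵁ O).ι
  have hmrange : Set.range m = (Q ⁻¹ᵁ O).ι ⁻¹' (blockOpen f f' a b : Set (powSum f f' (a + b))) := by
    ext w
    constructor
    · rintro ⟨z, rfl⟩
      show (Q ⁻¹ᵁ O).ι (m z) ∈ blockOpen f f' a b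
      rw [show (Q ⁻¹ᵁ O).ι (m z) = blockMap f f' a b z from congr(($hm).base z)]
      exact blockMap_mem f f' a b z
    · intro hw
      obtain ⟨z, hz⟩ : (Q ⁻¹ᵁ O).ι w ∈ Set.range (blockMap f f' a b) := by
        rw [hrange]; exact hw
      exact ⟨z, (Q ⁻¹ᵁ O).ι.isOpenEmbedding.injective ((congr(($hm).base z)).trans hz)⟩
  have hρι : ∀ σ (w : (Q ⁻¹ᵁ O).toScheme),
      (Q ⁻¹ᵁ O).ι ((ρO σ).hom w) = (ρ σ).hom ((Q ⁻¹ᵁ O).ι w) := fun σ w =>
    congr(($(SGA1Q.restrictAction_hom_ι ρ (Q ⁻¹ᵁ O) hst σ)).base w)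
  have h2 := isQuot_induced hq m
    (hmrange ▸ (isClosed_blockOpen f f' a b).preimage (Q ⁻¹ᵁ O).ι.continuous)
    (ρ' := blockAct f f' a b) (blockHom a b)
    (fun σ => by
      rw [← cancel_mono (Q ⁻¹ᵁ O).ι, Category.assoc, Category.assoc, hm,
        SGA1Q.restrictAction_hom_ι, reassoc_of% hm, blockAct_blockMap]
      rfl)
    (fun σ v hv => by
      rw [hmrange] at hv
      refine mem_range_blockHom f f' a b (blockMap_mem f f' a b v) ?_
      have hv' : (Q ⁻¹ᵁ O).ι ((ρO σ).hom (m v)) ∈ blockOpen f f' a b := hv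
      rw [hρι, show (Q ⁻¹ᵁ O).ι (m v) = blockMap f f' a b v from congr(($hm).base v)] at hv'
      exact hv')
    (fun w => by
      obtain ⟨σ, hσ⟩ := exists_perm_mem_blockOpen f f' a b (z := (Q ⁻¹ᵁ O).ι w) (by
        exact hO.le (x := (Q ⁻¹ᵁ O).ι w) w.2)
      refine ⟨⟨σ⟩, ?_⟩
      rw [hmrange]
      show (Q ⁻¹ᵁ O).ι ((ρO ⟨σ⟩).hom w) ∈ blockOpen f f' a b
      rw [hρι]
      exact hσ)
  have h1 := H9SymQ.isQuot_prod f f' a b (Or.inr hunit) hP hP' (blockAct f f' a b)
    (fun σ => ⟨by simp [blockAct], by simp [blockAct]⟩)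
  obtain ⟨k, hk, -⟩ := SGA1Q.desc_existsUnique_isQuot h1 _ h2.inv
  haveI := H9SymQ.isIso_of_isQuot h1 h2 k hk
  refine ⟨asIso k, H9SymQ.cancel_isQuot h1 ?_⟩
  rw [asIso_hom, reassoc_of% hk, morphismRestrict_ι_assoc, hT.over, reassoc_of% hm, blockMap_base]
  simp [hP.over]

end Block

/-- Positive integers are invertible over a field of characteristic zero. -/
lemma isUnit_natCast_of_charZero {k : Type u} [Field k] [CharZero k]
    (pY : Y ⟶ Spec (CommRingCat.of k)) (m : ℕ) (hm : 0 < m) : IsUnit ((m : ℕ) : Γ(Y, ⊤)) := by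
  have h1 : IsUnit ((m : ℕ) : k) := IsUnit.mk0 _ (Nat.cast_ne_zero.2 hm.ne')
  have h2 := h1.map (pY.appTop.hom.comp (Scheme.ΓSpecIso (CommRingCat.of k)).inv.hom)
  rwa [map_natCast] at h2

open scoped Classical in
lemma numLeft_le {n : ℕ} (z : powSum f f' n) : numLeft f f' z ≤ n :=
  (Finset.card_filter_le _ _).trans (Finset.card_fin n).le

/-- **The zeta series of a disjoint union.** -/
theorem cl_symPow_coprod (hunit : ∀ m : ℕ, 0 < m → IsUnit ((m : ℕ) : Γ(Y, ⊤)))
    (Sy : ℕ → Scheme.{u}) (q : ∀ n, SymProd.fibPow f n ⟶ Sy n) (g : ∀ n, Sy n ⟶ Y)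
    (hS : ∀ n, SymProd.IsSymProd f n (q n) (g n))
    [∀ n, LocallyOfFiniteType (g n)] [∀ n, QuasiCompact (g n)]
    (Sy' : ℕ → Scheme.{u}) (q' : ∀ n, SymProd.fibPow f' n ⟶ Sy' n) (g' : ∀ n, Sy' n ⟶ Y)
    (hS' : ∀ n, SymProd.IsSymProd f' n (q' n) (g' n))
    [∀ n, LocallyOfFiniteType (g' n)] [∀ n, QuasiCompact (g' n)]
    {n : ℕ} {T : Scheme.{u}} {Q : powSum f f' n ⟶ T} {h : T ⟶ Y}
    (hT : SymProd.IsSymProd (coprod.desc f f') n Q h) [LocallyOfFiniteType h] [QuasiCompact h] :
    K0Var.cl h = ∑ p ∈ Finset.antidiagonal n, K0Var.cl (g p.1) * K0Var.cl (g' p.2) := by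
  -- the degree descends
  have hinv : ∀ z z', Q z = Q z' → numLeft f f' z = numLeft f f' z' := by
    intro z z' e
    obtain ⟨σ, rfl⟩ := (SGA1Q.orbit_iff hT.isQuot z z').1 e
    exact (numLeft_permHom f f' σ.down z).symm
  have hsurj := SGA1Q.surjective hT.isQuot
  have hopen : ∀ a, IsOpen (Q '' (degOpen f f' n a : Set (powSum f f' n))) := by
    intro a
    rw [← (SGA1Q.isQuotientMap hT.isQuot).isOpen_preimage]
    convert (degOpen f f' n a).2 using 1
    ext z
    refine ⟨?_, fun hz => ⟨z, hz, rfl⟩⟩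
    rintro ⟨z', hz', e⟩
    exact (hinv z' z e).symm.trans hz'
  let O : ↥(Finset.antidiagonal n) → T.Opens := fun p => ⟨_, hopen p.1.1⟩
  have hpre : ∀ p, Q ⁻¹ᵁ O p = degOpen f f' n p.1.1 := by
    intro p
    refine Opens.ext (Set.ext fun z => ⟨?_, fun hz => ⟨z, hz, rfl⟩⟩)
    rintro ⟨z', hz', e⟩
    exact (hinv z' z e).symm.trans hz'
  have hdisj : ∀ p p', p ≠ p' → Disjoint (O p : Set T) (O p') := by
    intro p p' hne
    rw [Set.disjoint_left]
    rintro _ ⟨z, hz, rfl⟩ ⟨z', hz', e⟩
    refine hne (Subtype.ext ?_)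
    have e1 : p'.1.1 = p.1.1 := (hz'.symm.trans (hinv z' z e)).trans hz
    have e2 := (Finset.mem_antidiagonal.1 p.2).trans (Finset.mem_antidiagonal.1 p'.2).symm
    exact Prod.ext e1.symm (by omega)
  have hcov : ∀ t, ∃ p, t ∈ O p := by
    intro t
    obtain ⟨z, rfl⟩ := hsurj t
    exact ⟨⟨(numLeft f f' z, n - numLeft f f' z),
      Finset.mem_antidiagonal.2 (Nat.add_sub_cancel' (numLeft_le f f' z))⟩, z, rfl, rfl⟩
  rw [cl_eq_sum_piece h O hdisj hcov, ← Finset.sum_coe_sort (Finset.antidiagonal n)]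
  refine Finset.sum_congr rfl fun p _ => ?_
  have hclosed : IsClosed (O p : Set T) := by
    rw [← (SGA1Q.isQuotientMap hT.isQuot).isClosed_preimage]
    have e := congrArg (SetLike.coe) (hpre p)
    show IsClosed ((Q ⁻¹ᵁ O p : (powSum f f' n).Opens) : Set (powSum f f' n))
    rw [e]
    exact (isLocallyConstant_numLeft f f' n).isClosed_fiber p.1.1
  haveI := isClosedImmersion_ι _ hclosed
  rw [piece_eq h _ hclosed, ← K0Var.cl_mul]
  obtain ⟨⟨a, b⟩, hp⟩ := p
  obtain rfl := Finset.mem_antidiagonal.1 hp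
  obtain ⟨e, he⟩ := exists_iso_degree_piece f f' a b hunit hT (hS a) (hS' b)
    (O ⟨(a, b), hp⟩) (hpre ⟨(a, b), hp⟩)
  exact (K0Var.cl_congr _ _ e he).symm

end K0L
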